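import Mathlib.RingTheory.MvPolynomial.Homogeneous
import Mathlib.RingTheory.MvPolynomial.Basic
import Mathlib.Algebra.Order.Antidiag.FinsuppEquiv
import Mathlib.LinearAlgebra.FiniteDimensional.Basic

/-!
Spaces of homogeneous polynomials in finitely many variables: dimension and finiteness.
-/

set_option autoImplicit false

open MvPolynomial

namespace Groth.Agent.LocalAlg.Homogeneous

variable (k : Type*) [Field k] (r n : ℕ)

theorem setOf_degree_eq :
    {d : Fin r →₀ ℕ | d.degree = n} = ↑((Finset.univ : Finset (Fin r)).finsuppAntidiag n) := by
  ext d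
  simp [Finsupp.degree_eq_sum]

/-- The monomial basis of the space of forms of degree `n`. -/
noncomputable def basis :
    Module.Basis ((Finset.univ : Finset (Fin r)).finsuppAntidiag n) k (homogeneousSubmodule (Fin r) k n) :=
  ((basisRestrictSupport k ({d : Fin r →₀ ℕ | d.degree = n})).map
    (LinearEquiv.ofEq _ _ (homogeneousSubmodule_eq_finsupp_supported (Fin r) k n).symm)).reindex
    (Equiv.setCongr (setOf_degree_eq r n))

instance : FiniteDimensional k (homogeneousSubmodule (Fin r) k n) :=
  Module.Finite.of_basis (basis k r n)

theorem finrank_homogeneousSubmodule :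
    Module.finrank k (homogeneousSubmodule (Fin r) k n) = (r + n - 1).choose n := by
  rw [Module.finrank_eq_card_basis (basis k r n), Fintype.card_coe,
    Finset.card_finsuppAntidiag_nat_eq_choose, Finset.card_univ, Fintype.card_fin]

end Groth.Agent.LocalAlg.Homogeneous
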