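import Groth.Prelude.Def_CAlgX
import Mathlib.LinearAlgebra.Matrix.Adjugate
import Mathlib.LinearAlgebra.Matrix.ToLin
import Mathlib.RingTheory.Ideal.AssociatedPrime.Finiteness
import Mathlib.RingTheory.Ideal.Maps

/-!
Minor ideals: monotonicity, McCoy's theorem, left inverses.
-/

set_option autoImplicit false
universe u

open Matrix

namespace Groth.Agent.LocalAlg.Determinantal

variable {R : Type u} [CommRing R] {n m : ℕ}

theorem minor_mem {r : ℕ} (A : Matrix (Fin n) (Fin m) R) (f : Fin r → Fin n) (g : Fin r → Fin m) :
    (A.submatrix f g).det ∈ CAlgX.minorIdeal A r :=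
  Ideal.subset_span ⟨(f, g), rfl⟩

theorem minorIdeal_zero (A : Matrix (Fin n) (Fin m) R) : CAlgX.minorIdeal A 0 = ⊤ := by
  rw [Ideal.eq_top_iff_one]
  have h := minor_mem A (r := 0) Fin.elim0 Fin.elim0
  rwa [Matrix.det_isEmpty] at h

theorem minorIdeal_succ_le (A : Matrix (Fin n) (Fin m) R) (r : ℕ) :
    CAlgX.minorIdeal A (r + 1) ≤ CAlgX.minorIdeal A r := by
  refine Ideal.span_le.2 ?_
  rintro _ ⟨⟨f, g⟩, rfl⟩
  show (A.submatrix f g).det ∈ _
  rw [Matrix.det_succ_row_zero]
  refine Submodule.sum_mem _ fun j _ => Ideal.mul_mem_left _ _ ?_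
  rw [Matrix.submatrix_submatrix]
  exact minor_mem A _ _

theorem minorIdeal_antitone (A : Matrix (Fin n) (Fin m) R) {r s : ℕ} (h : r ≤ s) :
    CAlgX.minorIdeal A s ≤ CAlgX.minorIdeal A r := by
  induction h with
  | refl => exact le_rfl
  | step _ ih => exact (minorIdeal_succ_le A _).trans ih

theorem minorIdeal_eq_bot_of_lt_cols (A : Matrix (Fin n) (Fin m) R) {r : ℕ} (h : m < r) :
    CAlgX.minorIdeal A r = ⊥ := by
  refine le_bot_iff.1 (Ideal.span_le.2 ?_)
  rintro _ ⟨⟨f, g⟩, rfl⟩
  obtain ⟨i, j, hij, he⟩ := Fintype.exists_ne_map_eq_of_card_lt g (by simpa using h)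
  rw [SetLike.mem_coe, Ideal.mem_bot]
  exact Matrix.det_zero_of_column_eq hij fun k => by simp only [Matrix.submatrix_apply, he]

theorem minorIdeal_top_size (A : Matrix (Fin n) (Fin m) R) :
    CAlgX.minorIdeal A m = Ideal.span (Set.range fun f : Fin m → Fin n => (A.submatrix f id).det) := by
  refine le_antisymm (Ideal.span_le.2 ?_) (Ideal.span_mono ?_)
  · rintro _ ⟨⟨f, g⟩, rfl⟩
    by_cases hg : Function.Injective g
    · let e : Equiv.Perm (Fin m) := Equiv.ofBijective g (Finite.injective_iff_bijective.1 hg)
      have : A.submatrix f g = (A.submatrix f id).submatrix id e := by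
        ext i j; rfl
      rw [SetLike.mem_coe]
      simp only [this, Matrix.det_permute']
      exact Ideal.mul_mem_left _ _ (Ideal.subset_span ⟨f, rfl⟩)
    · simp only [Function.Injective, not_forall] at hg
      obtain ⟨i, j, he, hij⟩ := hg
      rw [SetLike.mem_coe]
      simp only [Matrix.det_zero_of_column_eq hij (M := A.submatrix f g) fun k => by
        simp only [Matrix.submatrix_apply, he]]
      exact zero_mem _
  · rintro _ ⟨f, rfl⟩
    exact ⟨(f, id), rfl⟩

/-- McCoy's theorem. -/
theorem mulVec_injective_iff (A : Matrix (Fin n) (Fin m) R) :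
    Function.Injective A.mulVecLin ↔ (CAlgX.minorIdeal A m).annihilator = ⊥ := by
  rw [← LinearMap.ker_eq_bot, LinearMap.ker_eq_bot']
  constructor
  · intro hinj
    refine le_bot_iff.1 fun a ha => ?_
    rw [Submodule.mem_annihilator] at ha
    rw [Ideal.mem_bot]
    have key : ∀ d r, r + d = m → ∀ x ∈ CAlgX.minorIdeal A r, a * x = 0 := by
      intro d
      induction d with
      | zero => intro r hr x hx; obtain rfl : r = m := by omega
                exact ha x hx
      | succ d ih =>
        intro r hr x hx
        induction hx using Submodule.span_induction with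
        | zero => simp
        | add y z _ _ hy hz => rw [mul_add, hy, hz, add_zero]
        | smul c y _ hy => rw [smul_eq_mul, mul_left_comm, hy, mul_zero]
        | mem y hy =>
          obtain ⟨⟨f, g⟩, rfl⟩ := hy
          by_cases hg : Function.Injective g
          · obtain ⟨j₀, hj₀⟩ : ∃ j₀, j₀ ∉ Set.range g := by
              by_contra hcon
              simp only [not_exists, not_not] at hcon
              have := Fintype.card_le_of_surjective g hcon
              simp at this
              omega
            let g' : Fin (r + 1) → Fin m := Fin.cons j₀ g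
            have hg' : Function.Injective g' := Fin.cons_injective_iff.2 ⟨hj₀, hg⟩
            let C : Fin (r + 1) → R := fun j => (-1) ^ (j : ℕ) * (A.submatrix f (g' ∘ j.succAbove)).det
            let v : Fin m → R := ∑ j, Pi.single (g' j) (a * C j)
            have hv : A.mulVecLin v = 0 := by
              funext i
              have hdet : (A.submatrix (Fin.cons i f) g').det = ∑ j, A i (g' j) * C j := by
                rw [Matrix.det_succ_row_zero]
                refine Finset.sum_congr rfl fun j _ => ?_
                simp only [C, Matrix.submatrix_submatrix]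
                rw [show (Fin.cons i f : Fin (r + 1) → Fin n) ∘ Fin.succ = f from
                  funext fun k => by simp]
                simp [Matrix.submatrix_apply]
                ring
              have h0 := ih (r + 1) (by omega) _ (minor_mem A (Fin.cons i f) g')
              rw [hdet, Finset.mul_sum] at h0
              simp only [v, map_sum, Finset.sum_apply, Pi.zero_apply]
              rw [← h0]
              refine Finset.sum_congr rfl fun j _ => ?_
              simp [Matrix.mulVec_single]
              ring
            have h1 := congrFun (hinj v hv) (g' 0)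
            simp only [v, Finset.sum_apply, Pi.zero_apply] at h1
            rw [Finset.sum_eq_single 0 (fun j _ hj => Pi.single_eq_of_ne (hg'.ne hj.symm) _)
              (fun h => absurd (Finset.mem_univ _) h), Pi.single_eq_same] at h1
            simpa [C, g', Fin.succAbove_zero, Function.comp_def] using h1
          · simp only [Function.Injective, not_forall] at hg
            obtain ⟨i, j, he, hij⟩ := hg
            simp only [Matrix.det_zero_of_column_eq hij (M := A.submatrix f g) fun k => by
              simp only [Matrix.submatrix_apply, he], mul_zero]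
    simpa using key m 0 (by omega) 1 (by rw [minorIdeal_zero]; trivial)
  · intro hann v hv
    funext i
    have : v i ∈ (CAlgX.minorIdeal A m).annihilator := by
      rw [Submodule.mem_annihilator]
      intro x hx
      rw [minorIdeal_top_size] at hx
      rw [smul_eq_mul]
      induction hx using Submodule.span_induction with
      | zero => simp
      | add y z _ _ hy hz => rw [mul_add, hy, hz, add_zero]
      | smul c y _ hy => rw [smul_eq_mul, mul_left_comm, hy, mul_zero]
      | mem y hy =>
        obtain ⟨f, rfl⟩ := hy
        have hB : (A.submatrix f id) *ᵥ v = 0 := by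
          funext k
          exact congrFun hv (f k)
        have := congrArg (fun w => (A.submatrix f id).adjugate *ᵥ w) hB
        simp only [Matrix.mulVec_mulVec, Matrix.adjugate_mul, Matrix.mulVec_zero,
          Matrix.smul_mulVec, Matrix.one_mulVec] at this
        rw [mul_comm]
        exact congrFun this i
    rw [hann, Ideal.mem_bot] at this
    exact this

theorem exists_mul_eq_smul_one (A : Matrix (Fin n) (Fin m) R) {a : R}
    (ha : a ∈ CAlgX.minorIdeal A m) :
    ∃ B : Matrix (Fin m) (Fin n) R, B * A = a • (1 : Matrix (Fin m) (Fin m) R) := by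
  rw [minorIdeal_top_size] at ha
  induction ha using Submodule.span_induction with
  | zero => exact ⟨0, by simp⟩
  | add y z _ _ hy hz =>
    obtain ⟨B, hB⟩ := hy
    obtain ⟨B', hB'⟩ := hz
    exact ⟨B + B', by rw [Matrix.add_mul, hB, hB', add_smul]⟩
  | smul c y _ hy =>
    obtain ⟨B, hB⟩ := hy
    exact ⟨c • B, by rw [Matrix.smul_mul, hB, smul_smul, smul_eq_mul]⟩
  | mem y hy =>
    obtain ⟨f, rfl⟩ := hy
    refine ⟨(A.submatrix f id).adjugate * (1 : Matrix (Fin n) (Fin n) R).submatrix f id, ?_⟩
    rw [Matrix.mul_assoc, show (1 : Matrix (Fin n) (Fin n) R).submatrix f id * A = A.submatrix f id by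
      ext i j; simp [Matrix.mul_apply, Matrix.one_apply], Matrix.adjugate_mul]

theorem det_mul_mem_minorIdeal (A : Matrix (Fin n) (Fin m) R) (B : Matrix (Fin m) (Fin n) R) :
    (B * A).det ∈ CAlgX.minorIdeal A m := by
  have h : (B * A : Matrix (Fin m) (Fin m) R) = fun i => ∑ k, B i k • A k := by
    funext i j
    simp [Matrix.mul_apply, Finset.sum_apply]
  have hdet : (B * A).det =
      (Matrix.detRowAlternating : (Fin m → R) [⋀^Fin m]→ₗ[R] R).toMultilinearMap (fun i => ∑ k, B i k • A k) := by
    show Matrix.detRowAlternating (B * A) = _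
    rw [h]; rfl
  rw [hdet, MultilinearMap.map_sum]
  refine Submodule.sum_mem _ fun f _ => ?_
  rw [MultilinearMap.map_smul_univ, smul_eq_mul]
  exact Ideal.mul_mem_left _ _ (minor_mem A f id)

theorem matrixRank_eq_of_ne_bot (A : Matrix (Fin n) (Fin m) R) (h : CAlgX.minorIdeal A m ≠ ⊥) :
    CAlgX.matrixRank A = m :=
  IsGreatest.csSup_eq ⟨h, fun _ hr => not_lt.1 fun hlt => hr (minorIdeal_eq_bot_of_lt_cols A hlt)⟩

theorem mulVec_injective_iff_rank [Nontrivial R] (A : Matrix (Fin n) (Fin m) R) :
    Function.Injective A.mulVecLin ↔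
      CAlgX.matrixRank A = m ∧ (CAlgX.detIdeal A).annihilator = ⊥ := by
  rw [mulVec_injective_iff]
  constructor
  · intro h
    have hr : CAlgX.matrixRank A = m := by
      refine matrixRank_eq_of_ne_bot A fun h0 => ?_
      rw [h0, Submodule.annihilator_bot] at h
      exact top_ne_bot h
    exact ⟨hr, by rwa [CAlgX.detIdeal, hr]⟩
  · rintro ⟨hr, h⟩
    rwa [CAlgX.detIdeal, hr] at h

/-- An ideal of a Noetherian ring with zero annihilator contains a non-zero-divisor. -/
theorem exists_mem_nonZeroDivisors [IsNoetherianRing R] {I : Ideal R} (h : I.annihilator = ⊥) :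
    ∃ a ∈ I, a ∈ nonZeroDivisors R := by
  by_contra hcon
  simp only [not_exists, not_and] at hcon
  have hsub : (I : Set R) ⊆ ⋃ P ∈ associatedPrimes R R, (P : Set R) := by
    rw [biUnion_associatedPrimes_eq_compl_nonZeroDivisors]
    exact fun a ha => hcon a ha
  have hfin := associatedPrimes.finite R R
  obtain ⟨P, hP, hle⟩ := (Ideal.subset_union_prime (f := fun i : Ideal R => i) (s := hfin.toFinset) ⊤ ⊤
    (fun i hi _ _ => IsAssociatedPrime.isPrime ((Set.Finite.mem_toFinset _).1 hi))).1
    (by simpa using hsub)
  obtain ⟨hPp, z, rfl⟩ := isAssociatedPrime_iff.1 ((Set.Finite.mem_toFinset _).1 hP)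
  have hz : z ∈ I.annihilator := by
    rw [Submodule.mem_annihilator]
    intro a ha
    rw [smul_eq_mul, mul_comm]
    exact (Submodule.mem_colon_singleton.1 (hle ha))
  rw [h, Ideal.mem_bot] at hz
  exact hPp.ne_top ((Ideal.eq_top_iff_one _).2 (Submodule.mem_colon_singleton.2 (by simp [hz])))

end Groth.Agent.LocalAlg.Determinantal
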