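import Mathlib.RingTheory.Nullstellensatz
import Mathlib.RingTheory.AlgebraicIndependent.TranscendenceBasis
import Mathlib.RingTheory.MvPolynomial.Homogeneous
import Mathlib.RingTheory.IntegralClosure.Algebra.Basic
import Mathlib.RingTheory.Localization.FractionRing
import Mathlib.Combinatorics.Matroid.Rank.ENat
import Mathlib.LinearAlgebra.Dimension.Free
import Mathlib.LinearAlgebra.FiniteDimensional.Basic
import Mathlib.FieldTheory.IsAlgClosed.Basic

/-!
The Hopf lemma: a bilinear map of finite dimensional spaces over an algebraically closed field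
without zero divisors has image spanning at least `dim U + dim V - 1` dimensions.
-/

set_option autoImplicit false

open MvPolynomial Module

namespace Groth.Agent.LocalAlg.HopfLinear

universe u

variable {k : Type u} [Field k] [IsAlgClosed k]

theorem hopf_bound {m n l : ℕ} (hm : 0 < m) (hn : 0 < n)
    (c : Fin l → Fin m → Fin n → k)
    (hc : ∀ (a : Fin m → k) (b : Fin n → k), (∀ r, ∑ i, ∑ j, c r i j * (a i * b j) = 0) →
      a = 0 ∨ b = 0) :
    m + n ≤ l + 1 := by
  classical
  let S := MvPolynomial (Fin m ⊕ Fin n) k
  let x : Fin m × Fin n → S := fun p => X (Sum.inl p.1) * X (Sum.inr p.2)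
  have hx2 : ∀ p, (x p).IsHomogeneous 2 := fun p =>
    (isHomogeneous_X k (Sum.inl p.1)).mul (isHomogeneous_X k (Sum.inr p.2))
  let σ : MvPolynomial (Fin m × Fin n) k →ₐ[k] S := aeval x
  let L : Fin l → MvPolynomial (Fin m × Fin n) k := fun r => ∑ i, ∑ j, C (c r i j) * X (i, j)
  have hLhom : ∀ r, (L r).IsHomogeneous 1 := fun r =>
    IsHomogeneous.sum _ _ _ fun i _ => IsHomogeneous.sum _ _ _ fun j _ =>
      IsHomogeneous.C_mul (isHomogeneous_X k _) _
  let y : Fin l → S := fun r => σ (L r)
  have hy2 : ∀ r, (y r).IsHomogeneous 2 := fun r => by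
    show (aeval x (L r)).IsHomogeneous 2
    have := (hLhom r).aeval x hx2
    rwa [mul_one] at this
  -- Nullstellensatz
  let J : Ideal (MvPolynomial (Fin m × Fin n) k) :=
    RingHom.ker σ.toRingHom ⊔ Ideal.span (Set.range L)
  have hz : ∀ z ∈ MvPolynomial.zeroLocus k J, z = 0 := by
    intro z hz
    have hminor : ∀ i i' j j', z (i, j) * z (i', j') = z (i, j') * z (i', j) := by
      intro i i' j j'
      have h : (X (i, j) * X (i', j') - X (i, j') * X (i', j) : MvPolynomial (Fin m × Fin n) k) ∈ J := by
        refine Ideal.mem_sup_left ?_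
        rw [RingHom.mem_ker]
        simp only [σ, AlgHom.toRingHom_eq_coe, RingHom.coe_coe, map_sub, map_mul, aeval_X, x]
        ring
      have := hz _ h
      simp only [map_sub, map_mul, aeval_X, sub_eq_zero] at this
      exact this
    have hlin : ∀ r, ∑ i, ∑ j, c r i j * z (i, j) = 0 := fun r => by
      have := hz _ (Ideal.mem_sup_right (Ideal.subset_span ⟨r, rfl⟩))
      simpa [L] using this
    by_contra hne
    obtain ⟨⟨i₀, j₀⟩, h0⟩ := Function.ne_iff.1 hne
    have h0' : z (i₀, j₀) ≠ 0 := h0
    let a : Fin m → k := fun i => z (i, j₀)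
    let b : Fin n → k := fun j => z (i₀, j) / z (i₀, j₀)
    have hab : ∀ i j, a i * b j = z (i, j) := fun i j => by
      simp only [a, b]
      rw [mul_div_assoc', div_eq_iff h0', hminor i i₀ j₀ j]
    rcases hc a b (fun r => by simpa only [hab] using hlin r) with h | h
    · exact h0' (congrFun h i₀)
    · exact (one_ne_zero (α := k)) (by simpa [b, h0'] using congrFun h j₀)
  have hrad : ∀ p, (X p : MvPolynomial (Fin m × Fin n) k) ∈ J.radical := by
    intro p
    rw [← vanishingIdeal_zeroLocus_eq_radical (K := k)]
    intro z hz'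
    rw [hz z hz']
    simp
  choose e he using hrad
  let N : Fin m × Fin n → ℕ := fun p => e p + 1
  -- homogeneous form of the relations
  have hrel : ∀ p, ∃ q : Fin l → MvPolynomial (Fin m × Fin n) k,
      (∀ r, (q r).IsHomogeneous (e p)) ∧ x p ^ N p = ∑ r, σ (q r) * y r := by
    intro p
    have hmem : (X p : MvPolynomial (Fin m × Fin n) k) ^ N p ∈ J := by
      rw [show N p = e p + 1 from rfl, pow_succ]; exact J.mul_mem_right _ (he p)
    obtain ⟨g, hg, h, hh, hsum⟩ := Submodule.mem_sup.1 hmem
    obtain ⟨w, hw⟩ := (Submodule.mem_span_range_iff_exists_fun _).1 hh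
    have hkey : x p ^ N p = ∑ r, σ (w r) * y r := by
      have := congrArg σ hsum
      rw [map_add, show σ g = 0 from hg, zero_add, ← hw, map_sum] at this
      simp only [smul_eq_mul, map_mul] at this
      rw [this]
      simp [σ]
    refine ⟨fun r => homogeneousComponent (e p) (w r), fun r => homogeneousComponent_isHomogeneous _ _, ?_⟩
    have hcomp : ∀ (q : MvPolynomial (Fin m × Fin n) k) (d : ℕ),
        homogeneousComponent (2 * d) (σ q) = σ (homogeneousComponent d q) := by
      intro q d
      conv_lhs => rw [← sum_homogeneousComponent q]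
      simp only [map_sum]
      have hd : ∀ i, homogeneousComponent (2 * d) (σ (homogeneousComponent i q)) =
          if d = i then σ (homogeneousComponent i q) else 0 := fun i => by
        rw [homogeneousComponent_of_mem (n := 2 * i) ((homogeneousComponent_isHomogeneous i q).aeval x hx2)]
        by_cases h : d = i
        · rw [if_pos h, if_pos (by rw [h])]
        · rw [if_neg h, if_neg (by omega)]
      simp only [hd, Finset.sum_ite_eq, Finset.mem_range]
      by_cases hlt : d < q.totalDegree + 1
      · rw [if_pos hlt]
      · rw [if_neg hlt, homogeneousComponent_eq_zero _ _ (by omega), map_zero]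
    have h2 := congrArg (homogeneousComponent (2 * N p)) hkey
    rw [homogeneousComponent_of_mem (n := 2 * N p) ((hx2 p).pow (N p)), if_pos rfl, map_sum] at h2
    rw [h2]
    refine Finset.sum_congr rfl fun r _ => ?_
    show homogeneousComponent _ (σ (w r) * σ (L r)) = _
    rw [← map_mul, hcomp]
    show σ _ = σ _ * σ (L r)
    rw [← map_mul]
    congr 1
    conv_lhs => rw [← sum_homogeneousComponent (w r), Finset.sum_mul, map_sum]
    have hd : ∀ i, homogeneousComponent (N p) (homogeneousComponent i (w r) * L r) =
        if e p = i then homogeneousComponent i (w r) * L r else 0 := fun i => by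
      rw [homogeneousComponent_of_mem (n := i + 1) ((homogeneousComponent_isHomogeneous i (w r)).mul (hLhom r))]
      by_cases h : e p = i
      · rw [if_pos h, if_pos (by simp [N, h])]
      · rw [if_neg h, if_neg (by simp [N]; omega)]
    simp only [hd, Finset.sum_ite_eq, Finset.mem_range]
    by_cases hlt : e p < (w r).totalDegree + 1
    · rw [if_pos hlt]
    · rw [if_neg hlt, homogeneousComponent_eq_zero _ _ (by omega), zero_mul]
  choose q hq hqeq using hrel
  -- integrality over `k[y]`
  let B : Subalgebra k S := Algebra.adjoin k (Set.range y)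
  let D := ∑ p, N p
  let mons : Set S := (fun s => σ (monomial s 1)) '' {s | s.degree ≤ D}
  let M : Submodule B S := Submodule.span B mons
  have hMfg : M.FG := by
    refine Submodule.fg_span (Set.Finite.image _ ?_)
    refine (Set.Finite.subset (Finsupp.finite_of_degree_le D) ?_)
    exact fun s hs => hs
  have hall : ∀ (d : ℕ) (s : (Fin m × Fin n) →₀ ℕ), s.degree = d → σ (monomial s 1) ∈ M := by
    intro d
    induction d using Nat.strong_induction_on with
    | _ d ih =>
      intro s hs
      by_cases hd : d ≤ D
      · exact Submodule.subset_span ⟨s, by simpa [hs] using hd, rfl⟩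
      obtain ⟨p, hp⟩ : ∃ p, N p ≤ s p := by
        by_contra hcon
        simp only [not_exists, not_le] at hcon
        apply hd
        rw [← hs, Finsupp.degree_eq_sum]
        exact Finset.sum_le_sum fun p _ => (hcon p).le
      obtain ⟨t, rfl⟩ : ∃ t, s = Finsupp.single p (N p) + t :=
        ⟨s - Finsupp.single p (N p), (add_tsub_cancel_of_le (Finsupp.single_le_iff.2 hp)).symm⟩
      have hdeg : N p + t.degree = d := by simpa using hs
      have h1 : σ (monomial (Finsupp.single p (N p) + t) 1) = ∑ r, σ (q p r * monomial t 1) * y r := by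
        have : (monomial (Finsupp.single p (N p) + t) (1 : k)) = X p ^ N p * monomial t 1 := by
          rw [X_pow_eq_monomial, monomial_mul, one_mul]
        rw [this, map_mul, map_pow, show σ (X p) = x p from aeval_X x p, hqeq, Finset.sum_mul]
        refine Finset.sum_congr rfl fun r _ => ?_
        rw [map_mul]; ring
      rw [h1]
      refine Submodule.sum_mem _ fun r _ => ?_
      rw [mul_comm]
      show (⟨y r, Algebra.subset_adjoin ⟨r, rfl⟩⟩ : B) • σ (q p r * monomial t 1) ∈ M
      refine Submodule.smul_mem _ _ ?_
      rw [as_sum (q p r * monomial t 1), map_sum]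
      refine Submodule.sum_mem _ fun u hu => ?_
      have hudeg : u.degree = e p + t.degree := by
        by_contra hne
        exact (mem_support_iff.1 hu) (((hq p r).mul (isHomogeneous_monomial (1 : k) rfl)).coeff_eq_zero hne)
      rw [← mul_one (coeff u _), ← C_mul_monomial, map_mul]
      show σ (C _) * σ (monomial u 1) ∈ M
      rw [aeval_C]
      show (⟨algebraMap k S _, B.algebraMap_mem _⟩ : B) • σ (monomial u 1) ∈ M
      refine Submodule.smul_mem _ _ (ih u.degree ?_ u rfl)
      simp only [N] at hdeg
      omega
  have hσM : ∀ f, σ f ∈ M := by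
    intro f
    rw [as_sum f, map_sum]
    refine Submodule.sum_mem _ fun u _ => ?_
    rw [← mul_one (coeff u f), ← C_mul_monomial, map_mul, aeval_C]
    show (⟨algebraMap k S _, B.algebraMap_mem _⟩ : B) • σ (monomial u 1) ∈ M
    exact Submodule.smul_mem _ _ (hall _ u rfl)
  have hint : ∀ p, IsIntegral B (x p) := by
    intro p
    refine isIntegral_of_smul_mem_submodule M ?_ hMfg (x p) ?_
    · intro h
      have h1 := hσM 1
      rw [h, Submodule.mem_bot, map_one] at h1
      exact one_ne_zero h1
    · intro f hf
      induction hf using Submodule.span_induction with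
      | zero => simp
      | add a b _ _ ha hb => rw [smul_add]; exact add_mem ha hb
      | smul s a _ ha => rw [smul_comm]; exact M.smul_mem s ha
      | mem a ha =>
        obtain ⟨u, -, rfl⟩ := ha
        rw [smul_eq_mul, ← show σ (X p) = x p from aeval_X x p, ← map_mul]
        exact hσM _
  -- an algebraically independent family
  let i₀ : Fin m := ⟨0, hm⟩
  let j₀ : Fin n := ⟨0, hn⟩
  let Z : Fin n ⊕ {i : Fin m // i ≠ i₀} → S := Sum.elim (fun j => x (i₀, j)) (fun i => x (i.1, j₀))
  have hZ : AlgebraicIndependent k Z := by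
    let K := FractionRing (MvPolynomial (Fin n ⊕ {i : Fin m // i ≠ i₀}) k)
    let T : Fin n ⊕ {i : Fin m // i ≠ i₀} → K :=
      fun a => algebraMap (MvPolynomial (Fin n ⊕ {i : Fin m // i ≠ i₀}) k) K (X a)
    have hT0 : T (Sum.inl j₀) ≠ 0 := by
      simp only [T, ne_eq, FaithfulSMul.algebraMap_eq_zero_iff]
      exact X_ne_zero _
    let ev : S →ₐ[k] K := aeval (Sum.elim
      (fun i => if h : i = i₀ then 1 else T (Sum.inr ⟨i, h⟩) / T (Sum.inl j₀))
      (fun j => T (Sum.inl j)))
    apply AlgebraicIndependent.of_comp ev
    have hcomp : ⇑ev ∘ Z = T := by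
      funext a
      rcases a with j | ⟨i, hi⟩
      · simp only [ev, Z, x, Function.comp_apply, Sum.elim_inl, map_mul]
        erw [aeval_X, aeval_X]
        simp [i₀]
      · simp only [ev, Z, x, Function.comp_apply, Sum.elim_inr, map_mul]
        erw [aeval_X, aeval_X]
        simp [hi, div_mul_cancel₀ _ hT0]
    rw [hcomp]
    exact (algebraicIndependent_X _ k).map' (f := IsScalarTower.toAlgHom k _ K)
      (IsFractionRing.injective _ K)
  have hsub : Set.range Z ⊆ (AlgebraicIndependent.matroid k S).closure (Set.range y) := by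
    rw [AlgebraicIndependent.matroid_closure_eq]
    rintro _ ⟨a, rfl⟩
    refine IsIntegral.isAlgebraic ?_
    rcases a with j | ⟨i, hi⟩ <;> exact hint _
  have hIndep : (AlgebraicIndependent.matroid k S).Indep (Set.range Z) := by
    rw [AlgebraicIndependent.matroid_indep_iff]
    exact hZ.to_subtype_range
  have := hIndep.encard_le_eRk_of_subset hsub
  rw [Matroid.eRk_closure_eq] at this
  have h3 := this.trans ((AlgebraicIndependent.matroid k S).eRk_le_encard _)
  have hcard : (Set.range Z).encard = (n + (m - 1) : ℕ) := by
    rw [← Set.image_univ, hZ.injective.encard_image, Set.encard_univ, ENat.card_eq_coe_fintype_card,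
      Fintype.card_sum, Fintype.card_fin, Fintype.card_subtype_compl, Fintype.card_subtype_eq,
      Fintype.card_fin]
  have hy' : (Set.range y).encard ≤ (l : ℕ∞) := by
    rw [← Set.image_univ]
    refine (Set.encard_image_le _ _).trans ?_
    simp
  have h4 := h3.trans hy'
  rw [hcard] at h4
  have : n + (m - 1) ≤ l := by exact_mod_cast h4
  omega

theorem hopf {U V W : Type*} [AddCommGroup U] [Module k U] [AddCommGroup V] [Module k V]
    [AddCommGroup W] [Module k W] [Module.Finite k U] [Module.Finite k V] [Module.Finite k W]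
    [Nontrivial U] [Nontrivial V] (φ : U →ₗ[k] V →ₗ[k] W)
    (hφ : ∀ (a : U) (b : V), a ≠ 0 → b ≠ 0 → φ a b ≠ 0) :
    finrank k U + finrank k V ≤ finrank k W + 1 := by
  let bU := Module.finBasis k U
  let bV := Module.finBasis k V
  let bW := Module.finBasis k W
  refine hopf_bound Module.finrank_pos Module.finrank_pos
    (fun r i j => bW.repr (φ (bU i) (bV j)) r) fun a b h => ?_
  by_contra hcon
  rw [not_or] at hcon
  refine hφ (∑ i, a i • bU i) (∑ j, b j • bV j)
    (fun h0 => hcon.1 (funext fun i => by simpa [bU.repr_sum_self, Finsupp.single_apply] using congrArg (fun w => bU.repr w i) h0))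
    (fun h0 => hcon.2 (funext fun i => by simpa [bV.repr_sum_self, Finsupp.single_apply] using congrArg (fun w => bV.repr w i) h0))
    (bW.repr.injective (Finsupp.ext fun r => ?_))
  rw [map_zero, Finsupp.zero_apply, ← h r]
  simp only [map_sum, map_smul, LinearMap.sum_apply, LinearMap.smul_apply, smul_smul,
    Finsupp.finsetSum_apply, Finsupp.smul_apply, smul_eq_mul, Finset.smul_sum, Finset.mul_sum]
  rw [Finset.sum_comm]
  exact Finset.sum_congr rfl fun i _ => Finset.sum_congr rfl fun j _ => by ring

end Groth.Agent.LocalAlg.HopfLinear
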