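import Groth.Prelude.Def_Found
import Mathlib.Algebra.DirectSum.Module
import Mathlib.LinearAlgebra.Projection
import Mathlib.Order.CompactlyGenerated.Basic
import Mathlib.LinearAlgebra.Finsupp.Span
import Mathlib.Order.Zorn

/-!
Kaplansky: direct summands of direct sums of countably generated modules.
-/

set_option autoImplicit false
universe u

namespace Groth.Agent.LocalAlg.Kaplansky

theorem sSupIndep_insert {α : Type*} [CompleteLattice α] [IsModularLattice α] {s : Set α} {c : α}
    (hs : sSupIndep s) (hc : Disjoint c (sSup s)) : sSupIndep (insert c s) := by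
  intro a ha
  by_cases hac : a = c
  · subst hac
    exact hc.mono_right (sSup_le_sSup (by rintro x ⟨rfl | hx, hne⟩; exacts [absurd rfl hne, hx]))
  · have has : a ∈ s := ha.resolve_left hac
    have h1 : Disjoint a (sSup (s \ {a})) := hs has
    have h2 : Disjoint (a ⊔ sSup (s \ {a})) c :=
      hc.symm.mono_left (sup_le (le_sSup has) (sSup_le_sSup Set.sdiff_subset))
    refine (h1.disjoint_sup_right_of_disjoint_sup_left h2).mono_right (sSup_le ?_)
    rintro x ⟨rfl | hx, hne⟩
    · exact le_sup_right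
    · exact le_sup_of_le_left (le_sSup ⟨hx, hne⟩)

variable {R : Type u} [CommRing R] {M : Type u} [AddCommGroup M] [Module R M] {ι : Type u}
  (N : ι → Submodule R M)

/-- The partial sum over a set of indices. -/
def part (J : Set ι) : Submodule R M := ⨆ i ∈ J, N i

theorem part_mono {J J' : Set ι} (h : J ⊆ J') : part N J ≤ part N J' := biSup_mono h

theorem part_union (J J' : Set ι) : part N (J ∪ J') = part N J ⊔ part N J' := iSup_union

/-- A countable set is contained in a countable `f`-stable set of indices. -/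
theorem exists_stable (f : M →ₗ[R] M) (htop : ⨆ i, N i = ⊤)
    (hc : ∀ i, ∃ s : Set M, s.Countable ∧ Submodule.span R s = N i) (i₀ : ι) :
    ∃ K : Set ι, K.Countable ∧ i₀ ∈ K ∧ (part N K).map f ≤ part N K := by
  classical
  choose s hs hspan using hc
  have hsup : ∀ m : M, ∃ F : Finset ι, m ∈ part N (F : Set ι) := fun m => by
    obtain ⟨F, hF⟩ := Submodule.exists_finset_of_mem_iSup N (htop ▸ Submodule.mem_top : m ∈ _)
    exact ⟨F, by simpa [part] using hF⟩
  choose F hF using hsup
  let nxt : Set ι → Set ι := fun K => K ∪ ⋃ i ∈ K, ⋃ m ∈ s i, (F (f m) : Set ι)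
  let K : ℕ → Set ι := fun n => nxt^[n] {i₀}
  have hK : ∀ n, (K n).Countable := by
    intro n
    induction n with
    | zero => exact Set.countable_singleton _
    | succ n ih =>
      simp only [K, Function.iterate_succ', Function.comp_apply]
      exact ih.union (ih.biUnion fun i _ => (hs i).biUnion fun m _ => Finset.countable_toSet _)
  refine ⟨⋃ n, K n, Set.countable_iUnion hK, Set.mem_iUnion.2 ⟨0, rfl⟩, ?_⟩
  rw [Submodule.map_le_iff_le_comap]
  refine iSup₂_le fun i hi => ?_
  obtain ⟨n, hn⟩ := Set.mem_iUnion.1 hi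
  rw [← hspan i, Submodule.span_le]
  intro m hm
  refine part_mono N (fun j hj => ?_) (hF (f m))
  refine Set.mem_iUnion.2 ⟨n + 1, ?_⟩
  simp only [K, Function.iterate_succ', Function.comp_apply]
  exact Or.inr (Set.mem_biUnion hn (Set.mem_biUnion hm hj))

/-- Kaplansky's theorem. -/
theorem exists_indep_countable (hind : iSupIndep N) (htop : ⨆ i, N i = ⊤)
    (hc : ∀ i, ∃ s : Set M, s.Countable ∧ Submodule.span R s = N i)
    (P Q : Submodule R M) (hPQ : IsCompl P Q) :
    ∃ 𝓛 : Set (Submodule R M), sSupIndep 𝓛 ∧ sSup 𝓛 = P ∧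
      ∀ L ∈ 𝓛, ∃ s : Set M, s.Countable ∧ Submodule.span R s = L := by
  classical
  let π := P.projection Q hPQ
  let S : Set (Set ι × Set (Submodule R M)) :=
    {x | sSupIndep x.2 ∧ (∀ L ∈ x.2, ∃ s : Set M, s.Countable ∧ Submodule.span R s = L) ∧
      (part N x.1).map π ≤ part N x.1 ∧ sSup x.2 = (part N x.1).map π}
  have ne : ((∅, ∅) : Set ι × Set (Submodule R M)) ∈ S :=
    ⟨fun _ h => h.elim, fun _ h => h.elim, by simp [part], by simp [part]⟩
  obtain ⟨⟨J, 𝓛⟩, -, hmax⟩ := zorn_le_nonempty₀ S (fun c hcS hch y hy => by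
    refine ⟨(⋃ x ∈ c, x.1, ⋃ x ∈ c, x.2), ⟨?_, ?_, ?_, ?_⟩,
      fun z hz => ⟨Set.subset_biUnion_of_mem (u := fun x : Set ι × Set (Submodule R M) => x.1) hz,
        Set.subset_biUnion_of_mem (u := fun x : Set ι × Set (Submodule R M) => x.2) hz⟩⟩
    · show sSupIndep (⋃ x ∈ c, x.2)
      rw [Set.biUnion_eq_iUnion]
      refine sSupIndep_iUnion_of_directed ?_ fun x => (hcS x.2).1
      exact (hch.directedOn.directed_val).mono_comp _ (g := fun x : Set ι × Set (Submodule R M) => x.2)
        fun a b h => h.2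
    · intro L hL
      obtain ⟨x, hx, hL⟩ := Set.mem_iUnion₂.1 hL
      exact (hcS hx).2.1 L hL
    · show (part N (⋃ x ∈ c, x.1)).map π ≤ _
      rw [Submodule.map_le_iff_le_comap]
      refine iSup₂_le fun i hi => ?_
      obtain ⟨x, hx, hix⟩ := Set.mem_iUnion₂.1 hi
      refine (le_biSup N hix).trans (Submodule.map_le_iff_le_comap.1 ((hcS hx).2.2.1.trans ?_))
      exact part_mono N (Set.subset_biUnion_of_mem (u := fun x : Set ι × Set (Submodule R M) => x.1) hx)
    · show sSup (⋃ x ∈ c, x.2) = (part N (⋃ x ∈ c, x.1)).map π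
      refine le_antisymm (sSup_le fun L hL => ?_) ?_
      · obtain ⟨x, hx, hL⟩ := Set.mem_iUnion₂.1 hL
        refine ((le_sSup hL).trans (hcS hx).2.2.2.le).trans (Submodule.map_mono (part_mono N ?_))
        exact Set.subset_biUnion_of_mem (u := fun x : Set ι × Set (Submodule R M) => x.1) hx
      · rw [Submodule.map_le_iff_le_comap]
        refine iSup₂_le fun i hi => ?_
        obtain ⟨x, hx, hix⟩ := Set.mem_iUnion₂.1 hi
        refine (le_biSup N hix).trans (Submodule.map_le_iff_le_comap.1 ((hcS hx).2.2.2.ge.trans ?_))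
        exact sSup_le_sSup (Set.subset_biUnion_of_mem (u := fun x : Set ι × Set (Submodule R M) => x.2) hx))
    _ ne
  obtain ⟨⟨h𝓛, hcg, hst, hsup⟩, hmax⟩ := hmax
  refine ⟨𝓛, h𝓛, ?_, hcg⟩
  dsimp only at hsup hst h𝓛 hcg
  suffices hJ : J = Set.univ by
    rw [hsup, hJ, part, iSup_univ, htop, Submodule.map_top, Submodule.range_projection]
  by_contra hJ
  obtain ⟨i₀, hi₀⟩ := (Set.ne_univ_iff_exists_notMem J).1 hJ
  obtain ⟨K, hK, hi₀K, hKst⟩ := exists_stable N π htop hc i₀
  have hd : IsCompl (part N J) (part N Jᶜ) := ⟨hind.disjoint_biSup_biSup disjoint_compl_right, by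
    rw [codisjoint_iff, ← part_union, Set.union_compl_self, part, iSup_univ, htop]⟩
  let ρ := π ∘ₗ (part N J).projection _ hd
  have hidem : ∀ x, π (π x) = π x := fun x =>
    Submodule.projection_apply_of_mem_left hPQ (Submodule.projection_apply_mem hPQ x)
  have hρ : ∀ x ∈ (part N J).map π, ρ x = x := by
    rintro _ ⟨y, hy, rfl⟩
    simp only [ρ, LinearMap.comp_apply]
    rw [Submodule.projection_apply_of_mem_left hd (hst ⟨y, hy, rfl⟩), hidem]
  have hρmem : ∀ x, ρ x ∈ (part N J).map π := fun x =>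
    ⟨_, Submodule.projection_apply_mem hd x, rfl⟩
  let C : Submodule R M := (part N K).map ((LinearMap.id - ρ) ∘ₗ π)
  have hdisj : Disjoint C (sSup 𝓛) := by
    rw [hsup, Submodule.disjoint_def]
    rintro _ ⟨y, hy, rfl⟩ hx
    have h0 := hρ _ hx
    simp only [LinearMap.comp_apply, LinearMap.sub_apply, LinearMap.id_apply, map_sub] at h0 ⊢
    rw [hρ _ (hρmem (π y)), sub_self] at h0
    exact h0.symm
  have hCcg : ∃ s : Set M, s.Countable ∧ Submodule.span R s = C := by
    choose s hs hspan using hc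
    refine ⟨((LinearMap.id - ρ) ∘ₗ π) '' ⋃ i ∈ K, s i, (hK.biUnion fun i _ => hs i).image _, ?_⟩
    rw [← Submodule.map_span, Submodule.span_iUnion₂]
    simp only [hspan]
    rfl
  have hsum : sSup (insert C 𝓛) = (part N (J ∪ K)).map π := by
    rw [sSup_insert, hsup, part_union, Submodule.map_sup]
    refine le_antisymm (sup_le ?_ le_sup_left) (sup_le le_sup_right ?_)
    · rintro _ ⟨y, hy, rfl⟩
      simp only [LinearMap.comp_apply, LinearMap.sub_apply, LinearMap.id_apply]
      exact sub_mem (Submodule.mem_sup_right ⟨y, hy, rfl⟩) (Submodule.mem_sup_left (hρmem _))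
    · rintro _ ⟨y, hy, rfl⟩
      have : π y = ((LinearMap.id - ρ) ∘ₗ π) y + ρ (π y) := by simp
      rw [this]
      exact add_mem (Submodule.mem_sup_left ⟨y, hy, rfl⟩) (Submodule.mem_sup_right (hρmem _))
  have hmem : ((J ∪ K, insert C 𝓛) : Set ι × Set (Submodule R M)) ∈ S := by
    refine ⟨sSupIndep_insert h𝓛 hdisj, ?_, ?_, hsum⟩
    · rintro L (rfl | hL)
      exacts [hCcg, hcg L hL]
    · show (part N (J ∪ K)).map π ≤ part N (J ∪ K)
      rw [part_union, Submodule.map_sup]
      exact sup_le_sup hst hKst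
  exact hi₀ ((hmax hmem ⟨Set.subset_union_left, Set.subset_insert _ _⟩).1 (Or.inr hi₀K))

/-- Kaplansky's theorem, internal direct sum form. -/
theorem exists_isInternal_countable [DecidableEq ι] (hN : DirectSum.IsInternal N)
    (hc : ∀ i, CAlg.IsCountablyGenerated R (N i)) (P Q : Submodule R M) (hPQ : IsCompl P Q) :
    ∃ (κ : Type u) (_ : DecidableEq κ) (L : κ → Submodule R P), DirectSum.IsInternal L ∧
      ∀ k, CAlg.IsCountablyGenerated R (L k) := by
  classical
  have hc' : ∀ i, ∃ s : Set M, s.Countable ∧ Submodule.span R s = N i := fun i => by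
    obtain ⟨s, hs, hspan⟩ := hc i
    exact ⟨(N i).subtype '' s, hs.image _, by rw [← Submodule.map_span, hspan, Submodule.map_subtype_top]⟩
  obtain ⟨hind, htop⟩ := (DirectSum.isInternal_submodule_iff_iSupIndep_and_iSup_eq_top N).1 hN
  obtain ⟨𝓛, h𝓛, hsup, hcg⟩ := exists_indep_countable N hind htop hc' P Q hPQ
  have hle : ∀ L : 𝓛, (L : Submodule R M) ≤ P := fun L => hsup ▸ le_sSup L.2
  have hmap : ∀ L : 𝓛, (Submodule.comap P.subtype (L : Submodule R M)).map P.subtype = L := fun L => by
    rw [Submodule.map_comap_subtype, inf_eq_right.2 (hle L)]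
  refine ⟨𝓛, inferInstance, fun L => Submodule.comap P.subtype L, ?_, fun L => ?_⟩
  · rw [DirectSum.isInternal_submodule_iff_iSupIndep_and_iSup_eq_top]
    refine ⟨fun L => ?_, ?_⟩
    · rw [Submodule.disjoint_def]
      intro x hx hx'
      have hj : (x : M) ∈ sSup (𝓛 \ {(L : Submodule R M)}) := by
        have := Submodule.mem_map_of_mem (f := P.subtype) hx'
        rw [Submodule.map_iSup] at this
        simp only [Submodule.map_iSup, hmap] at this
        exact (iSup₂_le (fun j hj => le_sSup (show ((j : 𝓛) : Submodule R M) ∈ 𝓛 \ {(L : Submodule R M)} from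
          ⟨j.2, fun h => hj (Subtype.ext h)⟩))) this
      exact Subtype.ext (Submodule.disjoint_def.1 (h𝓛 L.2) (x : M) hx hj)
    · apply Submodule.map_injective_of_injective P.injective_subtype
      rw [Submodule.map_iSup, Submodule.map_subtype_top]
      simp only [hmap]
      rw [← sSup_eq_iSup', hsup]
  · obtain ⟨s, hs, hspan⟩ := hcg L L.2
    let g := P.subtype ∘ₗ (Submodule.comap P.subtype (L : Submodule R M)).subtype
    have hg : Function.Injective g := P.injective_subtype.comp (Submodule.injective_subtype _)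
    refine ⟨g ⁻¹' s, hs.preimage hg, Submodule.map_injective_of_injective hg ?_⟩
    have hgL : LinearMap.range g = L := by
      rw [LinearMap.range_comp, Submodule.range_subtype, hmap]
    rw [Submodule.map_span, Submodule.map_top, hgL, Set.image_preimage_eq_inter_range,
      Set.inter_eq_left.2 fun x hx => ?_, hspan]
    show x ∈ LinearMap.range g
    rw [hgL, ← hspan]
    exact Submodule.subset_span hx

end Groth.Agent.LocalAlg.Kaplansky
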